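import Mathlib
import Cfsg.Prelude.Def_PLocal
import Cfsg.Agent.Lib.Cores

/-!
# S2772 (Sims' theorem, local form, dihedral quotient): definitions (helper88)

`omegaZ Q` is `Ω₁ Z(Q)` as a subgroup of the ambient group and `maxAb T` is the set of abelian
subgroups of `T` of largest order (so `sSup (maxAb T)` is the Thompson subgroup `J(T)`).
-/

set_option autoImplicit false

namespace Cfsg.Agent.Helper88.SimsD

/-- `Ω₁ Z(Q)` as a subgroup of `Γ`: the elements of `Q` which commute with all of `Q` and square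
to `1`. -/
def omegaZ {Γ : Type*} [Group Γ] (Q : Subgroup Γ) : Subgroup Γ where
  carrier := {v | v ∈ Q ∧ (∀ y ∈ Q, y * v = v * y) ∧ v ^ 2 = 1}
  one_mem' := ⟨Q.one_mem, fun y _ => by simp, by simp⟩
  mul_mem' := by
    rintro v w ⟨hv, hvc, hv2⟩ ⟨hw, hwc, hw2⟩
    refine ⟨Q.mul_mem hv hw, fun y hy => ?_, ?_⟩
    · rw [← mul_assoc, hvc y hy, mul_assoc, hwc y hy, mul_assoc]
    · have hvw : v * w = w * v := hwc v hv
      rw [pow_two, mul_assoc, ← mul_assoc w v w, ← hvw, mul_assoc, ← mul_assoc, ← pow_two, ← pow_two,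
        hv2, hw2, one_mul]
  inv_mem' := by
    rintro v ⟨hv, hvc, hv2⟩
    refine ⟨Q.inv_mem hv, fun y hy => ?_, ?_⟩
    · have := hvc y hy
      calc y * v⁻¹ = v⁻¹ * (v * y) * v⁻¹ := by group
        _ = v⁻¹ * (y * v) * v⁻¹ := by rw [this]
        _ = v⁻¹ * y := by group
    · rw [inv_pow, hv2, inv_one]

theorem mem_omegaZ {Γ : Type*} [Group Γ] {Q : Subgroup Γ} {v : Γ} :
    v ∈ omegaZ Q ↔ v ∈ Q ∧ (∀ y ∈ Q, y * v = v * y) ∧ v ^ 2 = 1 := Iff.rfl

theorem omegaZ_le {Γ : Type*} [Group Γ] (Q : Subgroup Γ) : omegaZ Q ≤ Q := fun _ hv => hv.1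

/-- The set of abelian subgroups of `T` of largest order. -/
def maxAb {H : Type*} [Group H] (T : Subgroup H) : Set (Subgroup H) :=
  {A | A ≤ T ∧ IsMulCommutative A ∧
    ∀ B : Subgroup H, B ≤ T → IsMulCommutative B → Nat.card B ≤ Nat.card A}

theorem mem_maxAb {H : Type*} [Group H] {T A : Subgroup H} :
    A ∈ maxAb T ↔ A ≤ T ∧ IsMulCommutative A ∧
      ∀ B : Subgroup H, B ≤ T → IsMulCommutative B → Nat.card B ≤ Nat.card A := Iff.rfl

/-- `Ω₁ Z(S) ≤ Ω₁ Z(Q)` when `Q ≤ S` and `C(Q) ≤ Q`. -/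
theorem omegaZ_le_omegaZ {Γ : Type*} [Group Γ] (S Q : Subgroup Γ) (hQS : Q ≤ S)
    (hchar : Subgroup.centralizer (Q : Set Γ) ≤ Q) : omegaZ S ≤ omegaZ Q := by
  intro z hz
  obtain ⟨-, hzc, hz2⟩ := hz
  have hzQ : z ∈ Q := by
    apply hchar
    rw [Subgroup.mem_centralizer_iff]
    intro y hy
    exact hzc y (hQS hy)
  exact ⟨hzQ, fun y hy => hzc y (hQS hy), hz2⟩

end Cfsg.Agent.Helper88.SimsD
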