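import Mathlib
import Cfsg.Agent.Helper88.SimsD.Defs

/-! # S2772 leaf (DQ): nonidentity elements of `D_{2q}` killed by `q` are rotations (helper88) -/

set_option autoImplicit false

namespace Cfsg.Agent.Helper88.SimsD

/-- (DQ) a nonidentity element of `D_{2q}` killed by `q` (odd) is a nontrivial rotation. -/
theorem dihedral_q_elt {q : ℕ} (hq : q.Prime) (hq2 : q ≠ 2) (y : DihedralGroup q)
    (hy : y ^ q = 1) (hy1 : y ≠ 1) : ∃ j : ZMod q, j ≠ 0 ∧ y = DihedralGroup.r j := by
  cases y with
  | r j =>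
    refine ⟨j, fun h => hy1 ?_, rfl⟩
    rw [h]
    rfl
  | sr i =>
    exfalso
    obtain ⟨m, hm⟩ := hq.eq_two_or_odd'.resolve_left hq2
    have h2 : (DihedralGroup.sr i : DihedralGroup q) ^ 2 = 1 := by
      rw [pow_two, DihedralGroup.sr_mul_self]
    have h3 : ∀ n : ℕ, n = 2 * m + 1 →
        (DihedralGroup.sr i : DihedralGroup q) ^ n = DihedralGroup.sr i := by
      intro n hn
      rw [hn, pow_succ, pow_mul, h2, one_pow, one_mul]
    have h4 : (DihedralGroup.sr i : DihedralGroup q) ^ q = DihedralGroup.sr i := h3 q hm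
    rw [h4, DihedralGroup.one_def] at hy
    cases hy

end Cfsg.Agent.Helper88.SimsD
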