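import Mathlib
import Cfsg.Prelude.Def_PLocal
import Cfsg.Agent.Lib.Cores
import Cfsg.Agent.Helper88.SimsD.Defs
import Cfsg.Agent.Helper37.SimsD_DG
import Cfsg.Agent.Helper68.SimsD_D2
import Cfsg.Agent.Helper88.SimsD.DQ
import Cfsg.Agent.Helper20.SimsD_CONJD
import Cfsg.Agent.Helper24.SimsD_IDX
import Cfsg.Agent.Helper68.SimsD_CU1
import Cfsg.Agent.Helper24.SimsD_ORB
import Cfsg.Agent.Helper63.SimsD_OZN
import Cfsg.Agent.Helper76.SimsD_SQ
import Cfsg.Agent.Helper60.SimsD_NOZ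
import Cfsg.Agent.Helper60.SimsD_NJ
import Cfsg.Agent.Helper90.SimsD_NZ1
import Cfsg.Agent.Helper47.SimsD_NZ2
import Cfsg.Agent.Helper47.SimsD_TR1
import Cfsg.Agent.Helper37.SimsD_TR2
import Cfsg.Agent.Helper90.SimsD_JQ
import Cfsg.Agent.Helper59.SimsD_SIMP
import Cfsg.Agent.Helper59.SimsD_Q2
import Cfsg.Agent.Helper69.SimsD_Q3F
import Cfsg.Agent.Helper69.SimsD_Q3P
import Cfsg.Agent.Helper22.SimsD_Q3O
import Cfsg.Agent.Helper22.SimsD_Q3B

/-!
# S2772 (Sims' theorem, local form, dihedral quotient): assembly (helper88)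

`H` simple, `G` maximal in `H`, `Q = O_2(G)`, `C_G(Q) ≤ Q`, `S` Sylow 2 of `G`, `N_H(S) ≰ G`,
`G/Q ≅ D_{2q}`, `q` prime.  Then `G ≅ S4` or `S4 × 2`.

* `q = 2`: impossible (`G/Q` would be a 2-group).
* `q ≥ 5`: impossible.  Either all abelian subgroups of `S` of largest order lie in `Q`
  (then `J(S) = J(Q)` is normal in `G`), or `|V : C_V(G)| ≤ 4` for `V = Ω₁ Z(Q)` and then the
  `q`-elements centralize `V`, so `Ω₁ Z(S) ≤ Z(G)`.  In both cases a nontrivial subgroup of `S`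
  which is invariant under `N_H(S)` is normal in `⟨G, g⟩ = H`.
* `q = 3`: Sims/Wong (`S3685`, passed in as the hypothesis `hsw`) on the primitive action of `H`
  on `H ⧸ G`; `Z3`, `S3`, `D12` are excluded by `C_G(Q) ≤ Q`.

The leaves were proved by helpers 20, 22, 24, 37, 42, 47, 59, 60, 63, 68, 69, 76, 90
(farm #13205).
-/

set_option autoImplicit false
set_option linter.unusedVariables false

namespace Cfsg.Agent.Helper88.SimsD

open Subgroup
open Cfsg.Agent.Helper20.SimsD Cfsg.Agent.Helper22.SimsD Cfsg.Agent.Helper24.SimsD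
  Cfsg.Agent.Helper37.SimsD Cfsg.Agent.Helper47.SimsD
  Cfsg.Agent.Helper59.SimsD Cfsg.Agent.Helper60.SimsD Cfsg.Agent.Helper63.SimsD
  Cfsg.Agent.Helper68.SimsD Cfsg.Agent.Helper69.SimsD Cfsg.Agent.Helper76.SimsD
  Cfsg.Agent.Helper90.SimsD

/-! ## ASSEMBLY -/

/-- (GEN) a subgroup containing the kernel, a preimage of a reflection and a preimage of a
nontrivial rotation is everything. -/
theorem eq_top_of_dihedral {Γ : Type*} [Group Γ] {q : ℕ} (hq : q.Prime)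
    (π : Γ →* DihedralGroup q) (K : Subgroup Γ) (hker : π.ker ≤ K)
    (i j : ZMod q) (hj : j ≠ 0) (a x : Γ) (ha : a ∈ K) (hx : x ∈ K)
    (hπa : π a = DihedralGroup.sr i) (hπx : π x = DihedralGroup.r j) : K = ⊤ := by
  have h1 : K.map π = ⊤ :=
    dihedral_eq_top hq (K.map π) i j hj (hπa ▸ Subgroup.mem_map_of_mem π ha)
      (hπx ▸ Subgroup.mem_map_of_mem π hx)
  have h2 : (K.map π).comap π = K := by
    rw [Subgroup.comap_map_eq, sup_eq_left.mpr hker]
  rw [← h2, h1, Subgroup.comap_top]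

/-- (CONJ) for a preimage `a` of a reflection there is `g` with `⟨a, g a g⁻¹⟩ ker π = ⊤`. -/
theorem exists_conj_gen {Γ : Type*} [Group Γ] {q : ℕ} (hq : q.Prime) (hq2 : q ≠ 2)
    (π : Γ →* DihedralGroup q) (hπ : Function.Surjective π) (a : Γ) (i : ZMod q)
    (hπa : π a = DihedralGroup.sr i) :
    ∃ g : Γ, Subgroup.closure {a, g * a * g⁻¹} ⊔ π.ker = ⊤ := by
  obtain ⟨y, hy⟩ := dihedral_conj_gen hq hq2 i
  obtain ⟨g, rfl⟩ := hπ y
  refine ⟨g, ?_⟩
  have h1 : (Subgroup.closure {a, g * a * g⁻¹} ⊔ π.ker).map π = ⊤ := by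
    rw [eq_top_iff, ← hy, Subgroup.closure_le]
    rintro z (rfl | rfl)
    · exact hπa ▸ Subgroup.mem_map_of_mem π
        (Subgroup.mem_sup_left (Subgroup.subset_closure (by simp)))
    · have : π (g * a * g⁻¹) = π g * DihedralGroup.sr i * (π g)⁻¹ := by
        rw [map_mul, map_mul, map_inv, hπa]
      exact this ▸ Subgroup.mem_map_of_mem π
        (Subgroup.mem_sup_left (Subgroup.subset_closure (by simp)))
  have h2 : ((Subgroup.closure {a, g * a * g⁻¹} ⊔ π.ker).map π).comap π =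
      Subgroup.closure {a, g * a * g⁻¹} ⊔ π.ker := by
    rw [Subgroup.comap_map_eq, sup_eq_left.mpr le_sup_right]
  rw [← h2, h1, Subgroup.comap_top]


/-- `|S : Q| |Q| = |S|` for `Q ≤ S`. -/
theorem relIndex_mul_card_of_le {Γ : Type*} [Group Γ] {Q S : Subgroup Γ} (h : Q ≤ S) :
    Q.relIndex S * Nat.card Q = Nat.card S := by
  have h1 : Nat.card (Q.subgroupOf S) = Nat.card Q :=
    Nat.card_congr (Subgroup.subgroupOfEquivOfLe h).toEquiv
  rw [Subgroup.relIndex, ← h1]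
  exact Subgroup.index_mul_card _

/-- the projection onto the dihedral quotient -/
noncomputable def proj {Γ : Type*} [Group Γ] {q : ℕ}
    (e : Γ ⧸ Cfsg.pCore 2 Γ ≃* DihedralGroup q) : Γ →* DihedralGroup q :=
  e.toMonoidHom.comp (QuotientGroup.mk' (Cfsg.pCore 2 Γ))

theorem proj_surjective {Γ : Type*} [Group Γ] {q : ℕ}
    (e : Γ ⧸ Cfsg.pCore 2 Γ ≃* DihedralGroup q) : Function.Surjective (proj e) :=
  e.surjective.comp (QuotientGroup.mk'_surjective _)

theorem proj_ker {Γ : Type*} [Group Γ] {q : ℕ}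
    (e : Γ ⧸ Cfsg.pCore 2 Γ ≃* DihedralGroup q) : (proj e).ker = Cfsg.pCore 2 Γ := by
  ext x
  simp only [proj, MonoidHom.mem_ker, MonoidHom.coe_comp, Function.comp_apply,
    MulEquiv.coe_toMonoidHom, QuotientGroup.mk'_apply]
  rw [MulEquiv.map_eq_one_iff, QuotientGroup.eq_one_iff]

/-- (CU) if some abelian subgroup of largest order of `S` is not in `Q` then
`|V : C_V(Γ)| ≤ 4` for `V = Ω₁ Z(Q)`. -/
theorem exists_central_of_not_le {Γ : Type*} [Group Γ] [Finite Γ]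
    (S : Sylow 2 Γ) (q : ℕ) (hq : q.Prime) (hq2 : q ≠ 2)
    (e : Γ ⧸ Cfsg.pCore 2 Γ ≃* DihedralGroup q)
    (A : Subgroup Γ) (hAS : A ≤ S) (hA : IsMulCommutative A)
    (hmax : ∀ B : Subgroup Γ, B ≤ S → IsMulCommutative B → Nat.card B ≤ Nat.card A)
    (hAQ : ¬ A ≤ Cfsg.pCore 2 Γ) :
    ∃ U : Subgroup Γ, U ≤ omegaZ (Cfsg.pCore 2 Γ) ∧ (∀ u ∈ U, ∀ x : Γ, x * u = u * x) ∧
      Nat.card (omegaZ (Cfsg.pCore 2 Γ)) ≤ 4 * Nat.card U := by
  have : (omegaZ (Cfsg.pCore 2 Γ)).Normal := omegaZ_normal _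
  have hQS : Cfsg.pCore 2 Γ ≤ S := Cfsg.Agent.Lib.pCore_le_sylow S
  have hcard : Nat.card (S : Subgroup Γ) = 2 * Nat.card (Cfsg.pCore 2 Γ) :=
    card_sylow_eq S q hq hq2 e
  have hidx : (Cfsg.pCore 2 Γ).relIndex S = 2 := by
    have h1 := relIndex_mul_card_of_le hQS
    rw [hcard] at h1
    exact Nat.eq_of_mul_eq_mul_right Nat.card_pos h1
  have hVcomm : IsMulCommutative (omegaZ (Cfsg.pCore 2 Γ)) := by
    rw [isMulCommutative_iff]
    rintro ⟨v, hv⟩ ⟨w, hw⟩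
    exact Subtype.ext (hw.2.1 v hv.1)
  have hIDX := card_le_two_mul_inf (S : Subgroup Γ) (Cfsg.pCore 2 Γ) A (omegaZ (Cfsg.pCore 2 Γ))
    hQS hidx (omegaZ_le _) hAS hA hmax hVcomm (fun v hv y hy => hv.2.1 y hy)
  obtain ⟨a, haA, haQ⟩ := SetLike.not_le_iff_exists.mp hAQ
  have hπa1 : proj e a ≠ 1 := fun h => haQ (proj_ker e ▸ (MonoidHom.mem_ker.mpr h))
  obtain ⟨k, hk⟩ : ∃ k : ℕ, a ^ 2 ^ k = 1 := by
    obtain ⟨k, hk⟩ := S.2 ⟨a, hAS haA⟩
    exact ⟨k, by simpa using congrArg Subtype.val hk⟩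
  obtain ⟨i, hi⟩ := dihedral_two_elt hq hq2 (proj e a) k (by rw [← map_pow, hk, map_one]) hπa1
  obtain ⟨g, hg⟩ := exists_conj_gen hq hq2 (proj e) (proj_surjective e) a i hi
  refine ⟨(omegaZ (Cfsg.pCore 2 Γ) ⊓ A) ⊓ A.map (MulAut.conj g).toMonoidHom,
    inf_le_left.trans inf_le_left, ?_, card_le_four_mul_inf_conj _ A hIDX g⟩
  intro u hu
  have hsub : (⊤ : Subgroup Γ) ≤ Subgroup.centralizer {u} := by
    rw [← hg, sup_le_iff, Subgroup.closure_le]
    constructor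
    · rintro z (rfl | rfl)
      · rw [SetLike.mem_coe, Subgroup.mem_centralizer_iff]
        rintro _ rfl
        exact congrArg Subtype.val ((isMulCommutative_iff.mp hA) ⟨_, hu.1.2⟩ ⟨z, haA⟩)
      · rw [SetLike.mem_coe, Subgroup.mem_centralizer_iff]
        rintro _ rfl
        obtain ⟨b, hb, rfl⟩ := Subgroup.mem_map.mp hu.2
        have hab : b * a = a * b :=
          congrArg Subtype.val ((isMulCommutative_iff.mp hA) ⟨b, hb⟩ ⟨a, haA⟩)
        simp only [MulEquiv.coe_toMonoidHom, MulAut.conj_apply]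
        calc g * b * g⁻¹ * (g * a * g⁻¹) = g * (b * a) * g⁻¹ := by group
          _ = g * (a * b) * g⁻¹ := by rw [hab]
          _ = g * a * g⁻¹ * (g * b * g⁻¹) := by group
    · rw [proj_ker]
      intro y hy
      rw [Subgroup.mem_centralizer_iff]
      rintro _ rfl
      exact (hu.1.1.2.1 y hy).symm
  intro x
  have := hsub (Subgroup.mem_top x)
  rw [Subgroup.mem_centralizer_iff] at this
  exact (this u rfl).symm


/-- (CEN) if all elements killed by `q` centralize `V = Ω₁ Z(Q)` then `Ω₁ Z(S) ≤ Z(Γ)`. -/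
theorem omegaZ_central {Γ : Type*} [Group Γ] [Finite Γ]
    (hchar : Subgroup.centralizer (Cfsg.pCore 2 Γ : Set Γ) ≤ Cfsg.pCore 2 Γ)
    (S : Sylow 2 Γ) (q : ℕ) (hq : q.Prime) (hq2 : q ≠ 2)
    (e : Γ ⧸ Cfsg.pCore 2 Γ ≃* DihedralGroup q)
    (hx : ∀ x : Γ, x ^ q = 1 → ∀ v ∈ omegaZ (Cfsg.pCore 2 Γ), x * v = v * x) :
    ∀ z : Γ, z ∈ omegaZ (S : Subgroup Γ) → ∀ x : Γ, x * z = z * x := by
  intro z hz
  have hQS : Cfsg.pCore 2 Γ ≤ S := Cfsg.Agent.Lib.pCore_le_sylow S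
  have hzV : z ∈ omegaZ (Cfsg.pCore 2 Γ) := omegaZ_le_omegaZ _ _ hQS hchar hz
  have hcard : Nat.card (S : Subgroup Γ) = 2 * Nat.card (Cfsg.pCore 2 Γ) :=
    card_sylow_eq S q hq hq2 e
  -- an element of `S` outside `Q`
  obtain ⟨a, haS, haQ⟩ : ∃ a : Γ, a ∈ (S : Subgroup Γ) ∧ a ∉ Cfsg.pCore 2 Γ := by
    by_contra hcon
    push Not at hcon
    have hle : (S : Subgroup Γ) ≤ Cfsg.pCore 2 Γ := hcon
    have heq : (S : Subgroup Γ) = Cfsg.pCore 2 Γ := le_antisymm hle hQS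
    rw [heq] at hcard
    have := Nat.card_pos (α := (Cfsg.pCore 2 Γ : Subgroup Γ))
    omega
  have hπa1 : proj e a ≠ 1 := fun h => haQ (proj_ker e ▸ (MonoidHom.mem_ker.mpr h))
  obtain ⟨k, hk⟩ : ∃ k : ℕ, a ^ 2 ^ k = 1 := by
    obtain ⟨k, hk⟩ := S.2 ⟨a, haS⟩
    exact ⟨k, by simpa using congrArg Subtype.val hk⟩
  obtain ⟨i, hi⟩ := dihedral_two_elt hq hq2 (proj e a) k (by rw [← map_pow, hk, map_one]) hπa1
  -- an element of order `q`
  have : Fact q.Prime := ⟨hq⟩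
  have hdvd : q ∣ Nat.card Γ := by
    rw [Subgroup.card_eq_card_quotient_mul_card_subgroup (Cfsg.pCore 2 Γ),
      Nat.card_congr e.toEquiv, DihedralGroup.nat_card]
    exact Dvd.dvd.mul_right (Dvd.intro_left 2 rfl) _
  obtain ⟨x, hxo⟩ := exists_prime_orderOf_dvd_card' q hdvd
  have hxq : x ^ q = 1 := hxo ▸ pow_orderOf_eq_one x
  have hx1 : x ≠ 1 := by
    rintro rfl
    rw [orderOf_one] at hxo
    exact hq.one_lt.ne hxo
  have hπx1 : proj e x ≠ 1 := by
    intro h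
    have hxQ : x ∈ Cfsg.pCore 2 Γ := proj_ker e ▸ (MonoidHom.mem_ker.mpr h)
    obtain ⟨m, hm⟩ := (Cfsg.Agent.Lib.isPGroup_pCore (G := Γ) 2) ⟨x, hxQ⟩
    have hm' : x ^ 2 ^ m = 1 := by simpa using congrArg Subtype.val hm
    have h1 : q ∣ 2 ^ m := hxo ▸ orderOf_dvd_of_pow_eq_one hm'
    have h2 : q ∣ 2 := hq.dvd_of_dvd_pow h1
    exact hq2 ((Nat.prime_dvd_prime_iff_eq hq Nat.prime_two).mp h2)
  obtain ⟨j, hj0, hj⟩ := dihedral_q_elt hq hq2 (proj e x) (by rw [← map_pow, hxq, map_one]) hπx1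
  have htop : Subgroup.centralizer {z} = (⊤ : Subgroup Γ) := by
    refine eq_top_of_dihedral hq (proj e) _ ?_ i j hj0 a x ?_ ?_ hi hj
    · rw [proj_ker]
      intro y hy
      rw [Subgroup.mem_centralizer_iff]
      rintro _ rfl
      exact (hz.2.1 y (hQS hy)).symm
    · rw [Subgroup.mem_centralizer_iff]
      rintro _ rfl
      exact (hz.2.1 a haS).symm
    · rw [Subgroup.mem_centralizer_iff]
      intro w hw
      rw [Set.mem_singleton_iff] at hw
      rw [hw]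
      exact (hx x hxq z hzV).symm
  intro y
  have := htop ▸ Subgroup.mem_top y
  rw [Subgroup.mem_centralizer_iff] at this
  exact (this z rfl).symm

/-- (CORE) the dichotomy in `Γ = G`. -/
theorem core_dichotomy {Γ : Type*} [Group Γ] [Finite Γ]
    (hchar : Subgroup.centralizer (Cfsg.pCore 2 Γ : Set Γ) ≤ Cfsg.pCore 2 Γ)
    (S : Sylow 2 Γ) (q : ℕ) (hq : q.Prime) (hq5 : 5 ≤ q)
    (e : Γ ⧸ Cfsg.pCore 2 Γ ≃* DihedralGroup q) :
    (∀ z : Γ, z ∈ omegaZ (S : Subgroup Γ) → ∀ x : Γ, x * z = z * x) ∨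
    (∀ A : Subgroup Γ, A ≤ S → IsMulCommutative A →
      (∀ B : Subgroup Γ, B ≤ S → IsMulCommutative B → Nat.card B ≤ Nat.card A) →
      A ≤ Cfsg.pCore 2 Γ) := by
  have hq2 : q ≠ 2 := by omega
  by_cases h : ∀ A : Subgroup Γ, A ≤ S → IsMulCommutative A →
      (∀ B : Subgroup Γ, B ≤ S → IsMulCommutative B → Nat.card B ≤ Nat.card A) →
      A ≤ Cfsg.pCore 2 Γ
  · exact Or.inr h
  · left
    push Not at h
    obtain ⟨A, hAS, hA, hmax, hAQ⟩ := h
    obtain ⟨U, hUV, hUc, hUcard⟩ := exists_central_of_not_le S q hq hq2 e A hAS hA hmax hAQ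
    have : (omegaZ (Cfsg.pCore 2 Γ)).Normal := omegaZ_normal _
    exact omegaZ_central hchar S q hq hq2 e (fun x hx =>
      commute_of_card_le_four (omegaZ (Cfsg.pCore 2 Γ)) U hUV hUc (fun v hv => hv.2.2) hUcard
        q hq hq5 x hx)

/-- the image in `H` of a normal subgroup of `↥G` is normalized by `G`. -/
theorem le_normalizer_map_subtype {H : Type*} [Group H] (G : Subgroup H) (N : Subgroup ↥G)
    [hN : N.Normal] : G ≤ Subgroup.normalizer ((N.map G.subtype : Subgroup H) : Set H) := by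
  have h1 := Subgroup.le_normalizer_map (H := N) G.subtype
  rw [Subgroup.normalizer_eq_top, ← MonoidHom.range_eq_map, Subgroup.range_subtype] at h1
  exact h1

/-- (GE5) `q ≥ 5` is impossible. -/
theorem false_of_five_le {H : Type*} [Group H] [Finite H] [IsSimpleGroup H]
    (G : Subgroup H) (hG : IsCoatom G)
    (hchar : Subgroup.centralizer (Cfsg.pCore 2 ↥G : Set ↥G) ≤ Cfsg.pCore 2 ↥G) (S : Sylow 2 ↥G)
    (hN : ¬ Subgroup.normalizer (((S : Subgroup ↥G).map G.subtype : Subgroup H) : Set H) ≤ G)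
    (q : ℕ) (hq : q.Prime) (hq5 : 5 ≤ q)
    (hD : Nonempty (↥G ⧸ Cfsg.pCore 2 ↥G ≃* DihedralGroup q)) : False := by
  obtain ⟨e⟩ := hD
  obtain ⟨g, hgT, hgG⟩ := SetLike.not_le_iff_exists.mp hN
  have hTG : (S : Subgroup ↥G).map G.subtype ≤ G := Subgroup.map_subtype_le _
  have hinj : Function.Injective G.subtype := Subgroup.subtype_injective G
  have hq2 : q ≠ 2 := by omega
  have hS1 : (S : Subgroup ↥G) ≠ ⊥ := by
    intro h
    have := card_sylow_eq S q hq hq2 e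
    rw [h, Subgroup.card_bot] at this
    omega
  have hT1 : (S : Subgroup ↥G).map G.subtype ≠ ⊥ := by
    rw [Ne, Subgroup.map_eq_bot_iff_of_injective _ hinj]
    exact hS1
  have hT2 : IsPGroup 2 ((S : Subgroup ↥G).map G.subtype) := S.2.map G.subtype
  rcases core_dichotomy hchar S q hq hq5 e with h | h
  · -- `X = Ω₁ Z(T)`
    have hnorm : (omegaZ (S : Subgroup ↥G)).Normal := by
      refine ⟨fun z hz x => ?_⟩
      rw [h z hz x, mul_inv_cancel_right]
      exact hz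
    refine false_of_invariant G hG (omegaZ ((S : Subgroup ↥G).map G.subtype))
      ((omegaZ_le _).trans hTG) (omegaZ_ne_bot _ hT2 hT1) ?_ g hgG
      (normalizer_le_normalizer_omegaZ _ hgT)
    rw [omegaZ_map G.subtype hinj]
    exact le_normalizer_map_subtype G _
  · -- `X = J(T)`
    have hJ : maxAb (S : Subgroup ↥G) = maxAb (Cfsg.pCore 2 ↥G) :=
      maxAb_eq_of_le _ _ (Cfsg.Agent.Lib.pCore_le_sylow S) (fun A hA => h A hA.1 hA.2.1 hA.2.2)
    have hnorm : (sSup (maxAb (S : Subgroup ↥G))).Normal := by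
      rw [hJ]
      have := normalizer_le_normalizer_sSup_maxAb (Cfsg.pCore 2 ↥G)
      rw [Subgroup.normalizer_eq_top] at this
      exact Subgroup.normalizer_eq_top_iff.mp (top_le_iff.mp this)
    refine false_of_invariant G hG (sSup (maxAb ((S : Subgroup ↥G).map G.subtype)))
      ((sSup_le (fun A hA => hA.1)).trans hTG) (sSup_maxAb_ne_bot _ hT1) ?_ g hgG
      (normalizer_le_normalizer_sSup_maxAb _ hgT)
    rw [sSup_maxAb_map G.subtype hinj]
    exact le_normalizer_map_subtype G _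

/-- (Q3) the case `q = 3`. -/
theorem result_three {H : Type*} [Group H] [Finite H] [IsSimpleGroup H]
    (G : Subgroup H) (hG : IsCoatom G)
    (hchar : Subgroup.centralizer (Cfsg.pCore 2 ↥G : Set ↥G) ≤ Cfsg.pCore 2 ↥G) (S : Sylow 2 ↥G)
    (hN : ¬ Subgroup.normalizer (((S : Subgroup ↥G).map G.subtype : Subgroup H) : Set H) ≤ G)
    (hD : Nonempty (↥G ⧸ Cfsg.pCore 2 ↥G ≃* DihedralGroup 3))
    (hsw : FaithfulSMul H (H ⧸ G) → MulAction.IsPreprimitive H (H ⧸ G) → ∀ a b : H ⧸ G,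
      Nat.card (MulAction.orbit (MulAction.stabilizer H a) b) = 3 →
      Nonempty (MulAction.stabilizer H a ≃* Multiplicative (ZMod 3)) ∨
      Nonempty (MulAction.stabilizer H a ≃* Equiv.Perm (Fin 3)) ∨
      Nonempty (MulAction.stabilizer H a ≃* DihedralGroup 6) ∨
      Nonempty (MulAction.stabilizer H a ≃* Equiv.Perm (Fin 4)) ∨
      Nonempty (MulAction.stabilizer H a ≃* Equiv.Perm (Fin 4) × Multiplicative (ZMod 2))) :
    Nonempty (↥G ≃* Equiv.Perm (Fin 4)) ∨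
      Nonempty (↥G ≃* Equiv.Perm (Fin 4) × Multiplicative (ZMod 2)) := by
  obtain ⟨e⟩ := hD
  obtain ⟨g, hgT, hgG⟩ := SetLike.not_le_iff_exists.mp hN
  have hTG : (S : Subgroup ↥G).map G.subtype ≤ G := Subgroup.map_subtype_le _
  have hinj : Function.Injective G.subtype := Subgroup.subtype_injective G
  have hcardS := card_sylow_eq S 3 Nat.prime_three (by norm_num) e
  have hcardT : Nat.card ((S : Subgroup ↥G).map G.subtype) = Nat.card (S : Subgroup ↥G) :=
    Subgroup.card_map_of_injective hinj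
  have hcardG : Nat.card G = 3 * Nat.card ((S : Subgroup ↥G).map G.subtype) := by
    rw [hcardT, hcardS, Subgroup.card_eq_card_quotient_mul_card_subgroup (Cfsg.pCore 2 ↥G),
      Nat.card_congr e.toEquiv, DihedralGroup.nat_card]
    ring
  have : FaithfulSMul H (H ⧸ G) := faithful_quotient G hG.1
  have hprim := preprimitive_quotient G hG
  have h3 := orbit_three G hG _ hTG hcardG g hgT hgG
  have hsw := hsw this hprim _ _ h3
  have hstab : MulAction.stabilizer H ((1 : H) : H ⧸ G) = G := MulAction.stabilizer_quotient G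
  apply exclude_small hchar ⟨e⟩
  have φ : ↥G ≃* ↥(MulAction.stabilizer H ((1 : H) : H ⧸ G)) :=
    MulEquiv.subgroupCongr hstab.symm
  rcases hsw with ⟨⟨f⟩⟩ | ⟨⟨f⟩⟩ | ⟨⟨f⟩⟩ | ⟨⟨f⟩⟩ | ⟨⟨f⟩⟩
  · exact Or.inl ⟨φ.trans f⟩
  · exact Or.inr (Or.inl ⟨φ.trans f⟩)
  · exact Or.inr (Or.inr (Or.inl ⟨φ.trans f⟩))
  · exact Or.inr (Or.inr (Or.inr (Or.inl ⟨φ.trans f⟩)))
  · exact Or.inr (Or.inr (Or.inr (Or.inr ⟨φ.trans f⟩)))

/-- the statement of S2772 -/
theorem main {H : Type*} [Group H] [Finite H] [IsSimpleGroup H] (hna : ¬ IsMulCommutative H)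
    (G : Subgroup H) (hG : IsCoatom G)
    (hchar : Subgroup.centralizer (Cfsg.pCore 2 ↥G : Set ↥G) ≤ Cfsg.pCore 2 ↥G) (S : Sylow 2 ↥G)
    (hN : ¬ Subgroup.normalizer (((S : Subgroup ↥G).map G.subtype : Subgroup H) : Set H) ≤ G)
    (q : ℕ) (hq : q.Prime) (hD : Nonempty (↥G ⧸ Cfsg.pCore 2 ↥G ≃* DihedralGroup q))
    (hsw : FaithfulSMul H (H ⧸ G) → MulAction.IsPreprimitive H (H ⧸ G) → ∀ a b : H ⧸ G,
      Nat.card (MulAction.orbit (MulAction.stabilizer H a) b) = 3 →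
      Nonempty (MulAction.stabilizer H a ≃* Multiplicative (ZMod 3)) ∨
      Nonempty (MulAction.stabilizer H a ≃* Equiv.Perm (Fin 3)) ∨
      Nonempty (MulAction.stabilizer H a ≃* DihedralGroup 6) ∨
      Nonempty (MulAction.stabilizer H a ≃* Equiv.Perm (Fin 4)) ∨
      Nonempty (MulAction.stabilizer H a ≃* Equiv.Perm (Fin 4) × Multiplicative (ZMod 2))) :
    Nonempty (↥G ≃* Equiv.Perm (Fin 4)) ∨
      Nonempty (↥G ≃* Equiv.Perm (Fin 4) × Multiplicative (ZMod 2)) := by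
  rcases Nat.lt_or_ge q 5 with h | h
  · have h23 : q = 2 ∨ q = 3 := by
      interval_cases q
      · exact absurd hq (by norm_num)
      · exact absurd hq (by norm_num)
      · exact Or.inl rfl
      · exact Or.inr rfl
      · exact absurd hq (by norm_num)
    rcases h23 with rfl | rfl
    · exact (false_of_two hD.some).elim
    · exact result_three G hG hchar S hN hD hsw
  · exact (false_of_five_le G hG hchar S hN q hq h hD).elim

end Cfsg.Agent.Helper88.SimsD
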